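import Groth.Agent.EtpbcB.OshHens
import Groth.Agent.EtpbcA.ArtinTransfer

/-!
# Strict localizations through étale neighbourhoods, and vanishing of stalks of higher direct images

* `isStrictLoc_of_etale` : if `p : Spec R ⟶ U`, `π : U ⟶ Y` étale and `p ≫ π` is a strict localization then
  `p` is a strict localization.
* `not_mem_supp_Rpush_iff_isStrictLoc` : for a strict localization `p : Spec R ⟶ Y` and a cartesian square
  `X' = X ×_Y Spec R`, the stalk of `R^q f_* F` at the image of the closed point vanishes iff
  `H^q(X', F|X') = 0`.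
-/

set_option autoImplicit false
universe u
open CategoryTheory CategoryTheory.Limits AlgebraicGeometry Opposite IsLocalRing

namespace Groth.Agent.Etbc.H216.StrictLocEt

open Groth.Agent.Etrest.StrictLoc Groth.Agent.EtpbcB Groth.Agent.EtpbcB.OshHens
open Groth.Agent.EtpbcA.Artin

/-- A strict localization of `Y` factoring through an étale `U ⟶ Y` is a strict localization of `U`. -/
theorem isStrictLoc_of_etale {U Y : Scheme.{u}} (π : U ⟶ Y) [AlgebraicGeometry.Etale π] {R : Type u}
    [CommRing R] [IsLocalRing R] (p : Spec (CommRingCat.of R) ⟶ U) (h : IsStrictLoc (p ≫ π)) :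
    IsStrictLoc p where
  henselian := h.henselian
  sepClosed := h.sepClosed
  sep := by
    obtain ⟨y, i, hi, hs⟩ := h.sep
    obtain ⟨j', hj'⟩ := exists_residueField_hom (resPt R ≫ p) _ rfl
    refine ⟨_, j', hj', ?_⟩
    generalize hu : (resPt R ≫ p) (closedPoint (ResidueField R)) = u at j' hj'
    have hy : π u = y := by
      have h1 := point_eq (a := 𝟙 _) (hi.trans (Category.id_comp _).symm)
      rw [← h1, ← hu]
      rfl
    subst hy
    have h2 : i = j'.comp (π.residueFieldMap u).hom := by
      have h3 : spm i = spm (j'.comp (π.residueFieldMap u).hom) := by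
        rw [← cancel_mono (Y.fromSpecResidueField (π u))]
        refine hi.trans ?_
        rw [spm_comp, Category.assoc]
        have h4 : spm (π.residueFieldMap u).hom ≫ Y.fromSpecResidueField (π u) =
            U.fromSpecResidueField u ≫ π :=
          Scheme.Hom.SpecMap_residueFieldMap_fromSpecResidueField π u
        rw [h4, ← Category.assoc, ← Category.assoc]
        exact congrArg (· ≫ π) hj'.symm
      exact spm_inj.1 h3
    rw [h2] at hs
    exact SepAlg.of_comp hs
  universal := by
    intro T _ _ t τ hτ
    obtain ⟨g, ⟨hg1, hg2⟩, hg3⟩ := h.universal T (t ≫ π) τ (by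
      rw [← Category.assoc (resPt R), ← Category.assoc, ← Category.assoc (spm τ)] at *
      rw [hτ, Category.assoc])
    refine ⟨g, ⟨?_, hg2⟩, ?_⟩
    · apply eq_of_resPt π
      · rw [Category.assoc]; exact hg1
      · rw [← hτ, ← Category.assoc, ← Category.assoc]
        congr 1
        rw [← spm_comp, ← spm_comp, spm_inj]
        ext x
        exact hg2 x
    · rintro g' ⟨h1, h2⟩
      exact hg3 g' ⟨by rw [← Category.assoc, h1], h2⟩

/-- A strict localization `p : Spec R ⟶ Y` comes from a strict henselization of the local ring. -/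
theorem exists_strictHens {Y : Scheme.{u}} {R : Type u} [CommRing R] [IsLocalRing R]
    (p : Spec (CommRingCat.of R) ⟶ Y) (h : IsStrictLoc p) :
    ∃ (_ : Algebra (Y.presheaf.stalk (p (closedPoint R))) R)
      (_ : IsLocalHom (algebraMap (Y.presheaf.stalk (p (closedPoint R))) R))
      (_ : Hensel.IsStrictHenselization (Y.presheaf.stalk (p (closedPoint R))) R),
      Hens2.specOf Y (p (closedPoint R)) R = p := by
  obtain ⟨φ, hφ, hφt⟩ := exists_stalk_hom p _ rfl
  let alg : Algebra (Y.presheaf.stalk (p (closedPoint R))) R := φ.toAlgebra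
  have hl : IsLocalHom (algebraMap (Y.presheaf.stalk (p (closedPoint R))) R) := hφ
  have h1 : Hens2.specOf Y (p (closedPoint R)) R = p := hφt
  refine ⟨alg, hl, ?_, h1⟩
  refine isStrictHenselization_of_isStrictLoc Y _ R ?_
  rw [h1]
  exact h

/-- The stalk of `R^q f_* F` at the image of the closed point of a strict localization vanishes iff the
cohomology of the base change vanishes. -/
theorem not_mem_supp_Rpush_iff_isStrictLoc {X Y X' : Scheme.{u}} (f : X ⟶ Y) [QuasiCompact f]
    [QuasiSeparated f] {R : Type u} [CommRing R] [IsLocalRing R] {p : Spec (CommRingCat.of R) ⟶ Y}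
    (hp : IsStrictLoc p) {a : X' ⟶ X} {f' : X' ⟶ Spec (CommRingCat.of R)} (h : IsPullback a f' f p)
    (F : EtCoh.Ab X) (q : ℕ) :
    p (closedPoint R) ∉ EtPBC.supp ((EtCoh.Rpush f q).obj F) ↔
      Subsingleton (EtCoh.H X' ((EtCoh.pull a).obj F) q) := by
  obtain ⟨_, _, _, he⟩ := exists_strictHens p hp
  rw [not_mem_supp_Rpush_iff f F q (p (closedPoint R)) R, he]
  exact PBCVan.van_iff h F q

end Groth.Agent.Etbc.H216.StrictLocEt
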