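import Groth.Agent.Etbc.H216.StrictLocVan
import Groth.Agent.EtpbcA.ArtinMain
import Groth.Agent.EtpbcA.ArtinDim
import Groth.Agent.S0541

/-!
# Affine vanishing on affine schemes over the strict localization of an algebraic scheme

* `subsingleton_H_of_trdeg` : `f : X ⟶ Y` affine of finite type between schemes locally of finite type over `k`,
  `p : Spec R ⟶ Y` a strict localization, `X' = X ×_Y Spec R`; all transcendence degrees on `X` at most `n`, that of
  the closed point at least `e`; then torsion sheaves on `X'` have no cohomology in degrees `q > n - e`.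
* `subsingleton_H_affineOpen` : the same for an affine open of `Spec R`.
* `exists_nhd_resTrdegLE` : near `y` all transcendence degrees are at most `dim O_{Y,y} + trdeg κ(y)`.
-/

set_option autoImplicit false
universe u
open CategoryTheory CategoryTheory.Limits AlgebraicGeometry Opposite IsLocalRing

namespace Groth.Agent.Etbc.H216.AffOpen

open Groth.Agent.Etrest.StrictLoc Groth.Agent.EtpbcB Groth.Agent.EtpbcA Groth.Agent.EtpbcA.Artin
open Groth.Agent.EtpbcB.StrictLoc
open Groth.Agent.Etbc.H216.StrictLocEt Groth.Agent.Etbc.H216.StrictLocVan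

/-- Affine vanishing over the strict localization, when all transcendence degrees on `X` are bounded. -/
theorem subsingleton_H_of_trdeg (K : Type u) [Field K] {X Y X' : Scheme.{u}}
    (aX : X ⟶ Spec (CommRingCat.of K)) (aY : Y ⟶ Spec (CommRingCat.of K)) [LocallyOfFiniteType aX]
    (f : X ⟶ Y) (w : f ≫ aY = aX) [IsAffineHom f] {R : Type u} [CommRing R] [IsLocalRing R]
    {p : Spec (CommRingCat.of R) ⟶ Y} (hp : IsStrictLoc p) {a : X' ⟶ X}
    {f' : X' ⟶ Spec (CommRingCat.of R)} (h : IsPullback a f' f p) (n e q : ℕ) (hq : n < e + q)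
    (hy : ∀ b, EtPBC.ResTrdegLE aY (p (closedPoint R)) b → e ≤ b)
    (hX : ∀ x : X, EtPBC.ResTrdegLE aX x n)
    (F : EtCoh.Ab X') (hF : EtCoh.IsTorsion F) : Subsingleton (EtCoh.H X' F q) := by
  refine subsingleton_H_of_forall f hp h F q ?_
  intro U hU l hl b hba hb
  have het : AlgebraicGeometry.Etale U.hom := U.prop
  have het' : AlgebraicGeometry.Etale ((EtCoh.bc f).obj U).hom := ((EtCoh.bc f).obj U).prop
  have hpr : IsAffineHom (BCCalc.pr f U) :=
    MorphismProperty.of_isPullback (BCCalc.isPullback_pr f U).flip inferInstance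
  have hf' : IsAffineHom f' := MorphismProperty.of_isPullback h inferInstance
  have hXa : IsAffine X' := isAffine_of_isAffineHom f'
  have hXi : IsAffine ((EtCoh.bc f).obj U).left := isAffine_of_isAffineHom (BCCalc.pr f U)
  have hbq : QuasiCompact b := inferInstance
  refine not_mem_supp_Rpush_of_trdeg K (((EtCoh.bc f).obj U).hom ≫ aX) (U.hom ≫ aY) (BCCalc.pr f U) ?_
    n e q hq (l (closedPoint R)) ?_ (fun m _ => PA_all m) _ (RpushTors.isTorsion_push b F hF) ?_
  · rw [← w, ← Category.assoc, BCCalc.pr_hom, Category.assoc]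
  · intro c hc
    have h1 := (resTrdegLE_comp_iff aY U.hom (l (closedPoint R)) (algAt_of_etale _ _) c).1 hc
    have h2 : U.hom (l (closedPoint R)) = p (closedPoint R) := by rw [← hl]; rfl
    rw [h2] at h1
    exact hy c h1
  · intro x _
    exact (resTrdegLE_comp_iff aX ((EtCoh.bc f).obj U).hom x (algAt_of_etale _ _) n).2 (hX _)

/-- An affine open of a strict localization comes from an affine open of an affine étale neighbourhood. -/
theorem exists_affineOpen_stage {Y : Scheme.{u}} {R : Type u} [CommRing R] [IsLocalRing R]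
    {p : Spec (CommRingCat.of R) ⟶ Y} (hp : IsStrictLoc p) (U : (Spec (CommRingCat.of R)).Opens)
    (hU : IsAffineOpen U) :
    ∃ (V : Y.Etale) (_ : IsAffine V.left) (l : Spec (CommRingCat.of R) ⟶ V.left)
      (_ : l ≫ V.hom = p) (W : V.left.Opens) (_ : IsAffineOpen W), l ⁻¹ᵁ W = U := by
  obtain ⟨Ω, _, _, ξ, e, he, hep⟩ := exists_iso_Osh p hp
  have hU' : IsAffineOpen ((inv e) ⁻¹ᵁ U) := hU.preimage_of_isIso (inv e)
  have : ∀ i, QuasiSeparatedSpace ((DS ξ).obj i) := fun i => by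
    have : IsAffine ((DS ξ).obj i) := isAffine_D ξ i
    infer_instance
  have haff : ∀ {i j : Idx ξ} (g : i ⟶ j), IsAffineHom ((DS ξ).map g) := fun {i j} g => by
    have : IsAffine ((DS ξ).obj i) := isAffine_D ξ i
    have : IsAffine ((DS ξ).obj j) := isAffine_D ξ j
    infer_instance
  obtain ⟨i, W, hW, hWU⟩ := exists_isAffineOpen_preimage_eq (DS ξ) (cone ξ) (isLimitCone ξ)
    ((inv e) ⁻¹ᵁ U) hU'
  refine ⟨(D ξ).obj i, isAffine_D ξ i, e ≫ leg ξ i, ?_, W, hW, ?_⟩
  · rw [Category.assoc, leg_hom, hep]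
  · have h1 : leg ξ i ⁻¹ᵁ W = (inv e) ⁻¹ᵁ U := hWU
    have h2 : (e ≫ leg ξ i) ⁻¹ᵁ W = e ⁻¹ᵁ (leg ξ i ⁻¹ᵁ W) := rfl
    have h3 : e ⁻¹ᵁ ((inv e) ⁻¹ᵁ U) = (e ≫ inv e) ⁻¹ᵁ U := rfl
    rw [h2, h1, h3, IsIso.hom_inv_id]
    rfl

/-- Affine vanishing for an affine open of a strict localization, when all transcendence degrees are bounded. -/
theorem subsingleton_H_affineOpen (K : Type u) [Field K] {Y : Scheme.{u}}
    (aY : Y ⟶ Spec (CommRingCat.of K)) [LocallyOfFiniteType aY] {R : Type u} [CommRing R] [IsLocalRing R]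
    {p : Spec (CommRingCat.of R) ⟶ Y} (hp : IsStrictLoc p) (n e q : ℕ) (hq : n < e + q)
    (hy : ∀ b, EtPBC.ResTrdegLE aY (p (closedPoint R)) b → e ≤ b)
    (hY : ∀ y : Y, EtPBC.ResTrdegLE aY y n)
    (U : (Spec (CommRingCat.of R)).Opens) (hU : IsAffineOpen U)
    (F : EtCoh.Ab (U : Scheme.{u})) (hF : EtCoh.IsTorsion F) :
    Subsingleton (EtCoh.H (U : Scheme.{u}) F q) := by
  obtain ⟨V, hV, l, hl, W, hW, rfl⟩ := exists_affineOpen_stage hp U hU
  have het : AlgebraicGeometry.Etale V.hom := V.prop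
  have hls : IsStrictLoc l := isStrictLoc_of_etale V.hom l (by rw [hl]; exact hp)
  have hWa : IsAffine W := hW
  have hWι : IsAffineHom W.ι := inferInstance
  refine subsingleton_H_of_trdeg K (W.ι ≫ V.hom ≫ aY) (V.hom ≫ aY) W.ι rfl hls
    (isPullback_morphismRestrict l W) n e q hq ?_ ?_ F hF
  · intro c hc
    have h1 := (resTrdegLE_comp_iff aY V.hom (l (closedPoint R)) (algAt_of_etale _ _) c).1 hc
    have h2 : V.hom (l (closedPoint R)) = p (closedPoint R) := by rw [← hl]; rfl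
    rw [h2] at h1
    exact hy c h1
  · intro x
    refine (resTrdegLE_comp_iff (V.hom ≫ aY) W.ι x (algAt_of_surjectiveOnStalks _ _) n).2 ?_
    exact (resTrdegLE_comp_iff aY V.hom _ (algAt_of_etale _ _) n).2 (hY _)

theorem le_of_lt_succ (x : WithBot ℕ∞) (n : ℕ) (h : x < ((n + 1 : ℕ) : WithBot ℕ∞)) :
    x ≤ ((n : ℕ) : WithBot ℕ∞) := by
  induction x with
  | bot => exact bot_le
  | coe x =>
    have h1 : x < ((n + 1 : ℕ) : ℕ∞) := WithBot.coe_lt_coe.1 h
    have h2 : x ≤ (n : ℕ∞) := by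
      have h3 : x < (n : ℕ∞) + 1 := by exact_mod_cast h1
      exact Order.le_of_lt_add_one h3
    exact WithBot.coe_le_coe.2 h2

open Groth.Agent.VarietyB in
/-- Near a point `y` of a scheme locally of finite type over `K`, all transcendence degrees are at most
`dim O_{Y,y} + trdeg_K κ(y)`. -/
theorem exists_nhd_resTrdegLE (K : Type u) [Field K] (Y : Scheme.{u}) (g : Y ⟶ Spec (CommRingCat.of K))
    [LocallyOfFiniteType g] (y : Y) (d : ℕ) (hd : ringKrullDim (Y.presheaf.stalk y) ≤ d) :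
    ∃ (e : ℕ) (_ : ∀ b, EtPBC.ResTrdegLE g y b ↔ e ≤ b) (W : Y.Opens) (_ : y ∈ W),
      ∀ w : W, EtPBC.ResTrdegLE (W.ι ≫ g) w (d + e) := by
  let _ : Y.Over (Spec (CommRingCat.of K)) := ⟨g⟩
  have : LocallyOfFiniteType (Y ↘ Spec (CommRingCat.of K)) := ‹LocallyOfFiniteType g›
  refine ⟨DimSch.trd K Y y, fun b => resTrdegLE_iff_trd K Y y b, ?_⟩
  have h1 : FlatMor.localDim Y y ≤ ((d + DimSch.trd K Y y : ℕ) : WithBot ℕ∞) := by
    rw [DimSch.localDim_eq K y]
    push_cast
    exact add_le_add_left hd _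
  have h2 : FlatMor.localDim Y y < ((d + DimSch.trd K Y y + 1 : ℕ) : WithBot ℕ∞) := by
    refine lt_of_le_of_lt h1 ?_
    exact_mod_cast Nat.lt_succ_self _
  obtain ⟨⟨W', hW⟩, hlt⟩ := iInf_lt_iff.1 h2
  let W : Y.Opens := W'
  refine ⟨W, hW, ?_⟩
  have h3 : topologicalKrullDim (W : Scheme.{u}) ≤ ((d + DimSch.trd K Y y : ℕ) : WithBot ℕ∞) :=
    le_of_lt_succ _ _ hlt
  exact (resTrdegLE_iff_dim K W (W.ι ≫ g) _).1 h3

end Groth.Agent.Etbc.H216.AffOpen
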