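import Groth.Agent.EtpbcA.CdColim
import Groth.Agent.S0099

/-!
# Vanishing of cohomology on a limit, through the sheaves `π_i⁻¹ π_{i*} F`
-/

set_option autoImplicit false
universe u
open CategoryTheory CategoryTheory.Limits AlgebraicGeometry Opposite

namespace Groth.Agent.Etbc.H216.LimitVan

open Groth.Agent.EtpbcA

/-- If `X = lim X_i` (affine transition maps) is quasi-compact and quasi-separated and
`H^q(X, π_i⁻¹ π_{i*} F) = 0` for all `i`, then `H^q(X, F) = 0`. -/
theorem subsingleton_H_of_isLimit {I : Type u} [SmallCategory I] [IsCofiltered I] (D : I ⥤ Scheme.{u})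
    [∀ {i j : I} (f : i ⟶ j), IsAffineHom (D.map f)] (c : Cone D) (hc : IsLimit c)
    [CompactSpace c.pt] [QuasiSeparatedSpace c.pt] (F : EtCoh.Ab c.pt) (q : ℕ)
    (h : ∀ i, Subsingleton (EtCoh.H c.pt ((EtCoh.pull (c.π.app i)).obj
      ((EtCoh.push (c.π.app i)).obj F)) q)) :
    Subsingleton (EtCoh.H c.pt F q) := by
  obtain ⟨hcol⟩ := CdColim.isColimit_phiCocone D c F hc
  have : PreservesColimitsOfShape Iᵒᵖ (EtCoh.HF c.pt q) :=
    Groth.Agent.S0099.result c.pt q Iᵒᵖ
  have : PreservesColimitsOfShape Iᵒᵖ (forget AddCommGrpCat.{u + 1}) := by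
    have := Groth.Agent.Etbase.PointBasics.preservesFilteredColimitsOfSize_forget.{u}
    infer_instance
  have hcol' := isColimitOfPreserves (forget AddCommGrpCat.{u + 1})
    (isColimitOfPreserves (EtCoh.HF c.pt q) hcol)
  have hzero (ξ : EtCoh.H c.pt F q) : ξ = 0 := by
    obtain ⟨a, η, hη⟩ := Types.jointly_surjective_of_isColimit hcol' ξ
    have hη0 : η = (0 : EtCoh.H c.pt (CdBc.Phi (c.π.app a.unop) F) q) :=
      @Subsingleton.elim _ (h a.unop) _ _
    rw [← hη, hη0]
    exact map_zero ((EtCoh.HF c.pt q).map ((CdColim.phiCocone D c F).ι.app a)).hom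
  exact ⟨fun ξ η => (hzero ξ).trans (hzero η).symm⟩

end Groth.Agent.Etbc.H216.LimitVan
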