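import Groth.Agent.Etbc.H216.LimitVan
import Groth.Agent.Etbc.H216.StrictLocEt

/-!
# Vanishing of cohomology on `X ×_Y Spec R`, `R` strictly henselian, through étale neighbourhoods

`subsingleton_H_of_forall`: let `p : Spec R ⟶ Y` be a strict localization, `X' = X ×_Y Spec R` and `F` on `X'`.
If for every affine étale neighbourhood `l : Spec R ⟶ U`, `U ⟶ Y` étale, the stalk of
`R^q (f_U)_* (b_* F)` at the image of the closed point vanishes, where `b : X' ⟶ X ×_Y U`, then
`H^q(X', F) = 0`.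
-/

set_option autoImplicit false
universe u
open CategoryTheory CategoryTheory.Limits AlgebraicGeometry Opposite IsLocalRing

namespace Groth.Agent.Etbc.H216.StrictLocVan

open Groth.Agent.Etrest.StrictLoc Groth.Agent.EtpbcB Groth.Agent.EtpbcB.OshHens
open Groth.Agent.EtpbcB.StrictLoc
open Groth.Agent.Etbc.H216.LimitVan Groth.Agent.Etbc.H216.StrictLocEt

/-- A strict localization of `Y` is isomorphic over `Y` to the spectrum of an étale local ring. -/
theorem exists_iso_Osh {Y : Scheme.{u}} {R : Type u} [CommRing R] [IsLocalRing R]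
    (p : Spec (CommRingCat.of R) ⟶ Y) (hp : IsStrictLoc p) :
    ∃ (Ω : Type u) (_ : Field Ω) (_ : IsSepClosed Ω) (ξ : Spec (CommRingCat.of Ω) ⟶ Y)
      (e : Spec (CommRingCat.of R) ⟶ Spec (Osh ξ)), IsIso e ∧ e ≫ toBase ξ = p := by
  obtain ⟨_, _, _, he⟩ := exists_strictHens p hp
  have hsep : IsSepClosed (ResidueField R) := hp.sepClosed
  obtain ⟨e, he1, he2⟩ := S0620.exists_iso Y (p (closedPoint R)) R
  exact ⟨ResidueField R, inferInstance, hsep, Hens2.geomPt Y (p (closedPoint R)) R, e, he1,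
    he2.trans he⟩

theorem subsingleton_H_of_forall {X Y X' : Scheme.{u}} (f : X ⟶ Y) [QuasiCompact f]
    [QuasiSeparated f] {R : Type u} [CommRing R] [IsLocalRing R] {p : Spec (CommRingCat.of R) ⟶ Y}
    (hp : IsStrictLoc p) {a : X' ⟶ X} {f' : X' ⟶ Spec (CommRingCat.of R)} (h : IsPullback a f' f p)
    (F : EtCoh.Ab X') (q : ℕ)
    (H : ∀ (U : Y.Etale) [IsAffine U.left] (l : Spec (CommRingCat.of R) ⟶ U.left) (_ : l ≫ U.hom = p)
      (b : X' ⟶ ((EtCoh.bc f).obj U).left) (_ : b ≫ ((EtCoh.bc f).obj U).hom = a)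
      (_ : IsPullback b f' (BCCalc.pr f U) l),
      l (closedPoint R) ∉ EtPBC.supp ((EtCoh.Rpush (BCCalc.pr f U) q).obj ((EtCoh.push b).obj F))) :
    Subsingleton (EtCoh.H X' F q) := by
  obtain ⟨Ω, _, _, ξ, e, he, hep⟩ := exists_iso_Osh p hp
  have h' : IsPullback a (f' ≫ e) f (toBase ξ) :=
    IsPullback.of_iso h (Iso.refl _) (Iso.refl _) (asIso e) (Iso.refl _) (by simp) (by simp)
      (by simp) (by simp [hep])
  have hq1 : QuasiCompact f' := MorphismProperty.of_isPullback h inferInstance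
  have hq2 : QuasiSeparated f' := MorphismProperty.of_isPullback h inferInstance
  have hX1 : CompactSpace X' := QuasiCompact.compactSpace_of_compactSpace f'
  have hX2 : QuasiSeparatedSpace X' := quasiSeparatedSpace_of_quasiSeparated f'
  have : CompactSpace (coneX ξ f h').pt := hX1
  have : QuasiSeparatedSpace (coneX ξ f h').pt := hX2
  refine subsingleton_H_of_isLimit (DX ξ f) (coneX ξ f h') (isLimitConeX ξ f h') F q fun i => ?_
  let l : Spec (CommRingCat.of R) ⟶ ((D ξ).obj i).left := e ≫ leg ξ i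
  have hl : l ≫ ((D ξ).obj i).hom = p := by
    rw [Category.assoc, leg_hom, hep]
  have het : AlgebraicGeometry.Etale ((D ξ).obj i).hom := ((D ξ).obj i).prop
  have hls : IsStrictLoc l := isStrictLoc_of_etale ((D ξ).obj i).hom l (by rw [hl]; exact hp)
  have hb : IsPullback (legX ξ f h' i) f' (BCCalc.pr f ((D ξ).obj i)) l := by
    refine IsPullback.of_right (h₁₂ := ((EtCoh.bc f).obj ((D ξ).obj i)).hom) (v₁₃ := f)
      (h₂₂ := ((D ξ).obj i).hom) ?_ ?_ (BCCalc.isPullback_pr f ((D ξ).obj i)).flip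
    · rw [legX_hom, hl]
      exact h
    · rw [legX_pr, Category.assoc]
  have hqc : QuasiCompact (BCCalc.pr f ((D ξ).obj i)) :=
    MorphismProperty.of_isPullback (BCCalc.isPullback_pr f ((D ξ).obj i)).flip inferInstance
  have hqs : QuasiSeparated (BCCalc.pr f ((D ξ).obj i)) :=
    MorphismProperty.of_isPullback (BCCalc.isPullback_pr f ((D ξ).obj i)).flip inferInstance
  exact (not_mem_supp_Rpush_iff_isStrictLoc (BCCalc.pr f ((D ξ).obj i)) hls hb
    ((EtCoh.push (legX ξ f h' i)).obj F) q).1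
    (H ((D ξ).obj i) l hl (legX ξ f h' i) (legX_hom ξ f h' i) hb)

end Groth.Agent.Etbc.H216.StrictLocVan
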